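import Groth.Agent.S7661
import Groth.Agent.S9203
import Groth.Agent.L18.KerReduced
import Mathlib.AlgebraicGeometry.Morphisms.ClosedImmersion
import Mathlib.AlgebraicGeometry.PullbackCarrier
import Mathlib.AlgebraicGeometry.ResidueField
import Mathlib.AlgebraicGeometry.Morphisms.QuasiCompact

/-!
Finite sets of points in affine opens: avoidance and gluing along two closed subschemes.
-/

set_option autoImplicit false
universe u

set_option linter.style.haveILetI false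

open AlgebraicGeometry CategoryTheory CategoryTheory.Limits TopologicalSpace

namespace Groth.L22.FinAff

variable {X Z : Scheme.{u}}

/-- The prime of the ring of global sections belonging to a point. -/
noncomputable def primeAt (X : Scheme.{u}) (x : X) : Ideal Γ(X, ⊤) :=
  RingHom.ker (X.evaluation ⊤ x trivial).hom

theorem primeAt_isPrime (x : X) : (primeAt X x).IsPrime :=
  RingHom.ker_isPrime _

theorem notMem_primeAt_iff {x : X} {f : Γ(X, ⊤)} : f ∉ primeAt X x ↔ x ∈ X.basicOpen f :=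
  X.evaluation_ne_zero_iff_mem_basicOpen (U := ⊤) x trivial f

/-- The ideal of functions whose non-vanishing locus lies in an open set. -/
noncomputable def supportedIdeal (O : X.Opens) : Ideal Γ(X, ⊤) where
  carrier := {f | X.basicOpen f ≤ O}
  zero_mem' := by simp [Scheme.basicOpen_zero]
  add_mem' {f g} hf hg := (X.basicOpen_add_le f g).trans (sup_le hf hg)
  smul_mem' c f hf := by
    show X.basicOpen (c * f) ≤ O
    rw [Scheme.basicOpen_mul]
    exact inf_le_right.trans hf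

/-- Prime avoidance on an affine scheme. -/
theorem exists_basicOpen_le_finset [IsAffine X] (O : X.Opens) (T : Set X) (hT : T.Finite)
    (hTO : T ⊆ O) : ∃ f : Γ(X, ⊤), X.basicOpen f ≤ O ∧ T ⊆ X.basicOpen f := by
  classical
  obtain ⟨f, hf, hfT⟩ := Groth.Agent.S7661.result Γ(X, ⊤) (supportedIdeal O)
    (hT.toFinset.image (primeAt X))
    (fun p hp => by obtain ⟨x, -, rfl⟩ := Finset.mem_image.1 hp; exact primeAt_isPrime x)
    (fun p hp hle => by
      obtain ⟨x, hx, rfl⟩ := Finset.mem_image.1 hp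
      obtain ⟨g, hg, hxg⟩ := (isAffineOpen_top X).exists_basicOpen_le (V := O)
        ⟨x, hTO (hT.mem_toFinset.1 hx)⟩ trivial
      exact notMem_primeAt_iff.2 hxg (hle hg)) 0
  refine ⟨f, Ideal.Quotient.eq_zero_iff_mem.1 hf, fun x hx => ?_⟩
  exact notMem_primeAt_iff.1 (hfT _ (Finset.mem_image_of_mem _ (hT.mem_toFinset.2 hx)))

/-- A finite set in an affine open and in an open lies in a smaller affine open. -/
theorem exists_affine_le_finset {V : X.Opens} (hV : IsAffineOpen V) (O : X.Opens) (T : Set X)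
    (hT : T.Finite) (hTV : T ⊆ V) (hTO : T ⊆ O) :
    ∃ V' : X.Opens, IsAffineOpen V' ∧ V' ≤ V ⊓ O ∧ T ⊆ V' := by
  haveI : IsAffine (V : Scheme) := hV
  obtain ⟨f, hf, hfT⟩ := exists_basicOpen_le_finset (V.ι ⁻¹ᵁ O) (V.ι ⁻¹' T)
    (hT.preimage V.ι.isOpenEmbedding.injective.injOn) (fun x hx => hTO hx)
  refine ⟨V.ι ''ᵁ (V : Scheme).basicOpen f, ((isAffineOpen_top _).basicOpen f).image_of_isOpenImmersion _, ?_, ?_⟩
  · rintro x ⟨y, hy, rfl⟩
    exact ⟨y.2, hf hy⟩
  · intro t ht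
    exact ⟨⟨t, hTV ht⟩, hfT (show (V.ι ⟨t, hTV ht⟩) ∈ T from ht), rfl⟩

/-- Lifting a function from an affine closed subscheme, avoiding finitely many points. -/
theorem exists_lift_basicOpen {C : Scheme.{u}} [IsAffine X] (g : C ⟶ X) [IsClosedImmersion g]
    (b : Γ(C, ⊤)) (T : Set X) (hT : T.Finite) (hb : ∀ c, g c ∈ T → c ∈ C.basicOpen b) :
    ∃ a : Γ(X, ⊤), g.appTop a = b ∧ T ⊆ X.basicOpen a := by
  classical
  haveI : IsAffine C := (IsClosedImmersion.isAffine_surjective_of_isAffine g).1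
  obtain ⟨a₀, rfl⟩ := (IsClosedImmersion.isAffine_surjective_of_isAffine g).2 b
  obtain ⟨a, ha, haT⟩ := Groth.Agent.S7661.result Γ(X, ⊤) (RingHom.ker g.appTop.hom)
    ((hT.toFinset.image (primeAt X)).filter fun p => ¬ RingHom.ker g.appTop.hom ≤ p)
    (fun p hp => by
      obtain ⟨x, -, rfl⟩ := Finset.mem_image.1 (Finset.mem_filter.1 hp).1
      exact primeAt_isPrime x)
    (fun p hp => (Finset.mem_filter.1 hp).2) (Ideal.Quotient.mk _ a₀)
  have hker : g.appTop.hom a = g.appTop.hom a₀ := by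
    have := Ideal.Quotient.eq.1 ha
    rwa [RingHom.mem_ker, map_sub, sub_eq_zero] at this
  refine ⟨a, hker, fun t ht => ?_⟩
  by_cases h : RingHom.ker g.appTop.hom ≤ primeAt X t
  · -- `t` is in the image of `g`
    obtain ⟨c, rfl⟩ : t ∈ Set.range g := by
      by_contra hn
      obtain ⟨f, hf, htf⟩ := (isAffineOpen_top X).exists_basicOpen_le
        (V := ⟨(Set.range g)ᶜ, g.isClosedEmbedding.isClosed_range.isOpen_compl⟩) ⟨t, hn⟩ trivial
      have hnil : IsNilpotent (g.appTop.hom f) := by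
        rw [Scheme.isNilpotent_iff_basicOpen_eq_bot, ← Scheme.preimage_basicOpen_top, eq_bot_iff]
        exact fun c hc => (hf hc ⟨c, rfl⟩).elim
      obtain ⟨n, hn'⟩ := hnil
      have : f ^ n ∈ primeAt X t := h (by rw [RingHom.mem_ker, map_pow]; exact hn')
      exact notMem_primeAt_iff.2 htf ((primeAt_isPrime t).mem_of_pow_mem n this)
    have h2 : c ∈ g ⁻¹ᵁ X.basicOpen a := by
      rw [Scheme.preimage_basicOpen_top]
      exact hker ▸ hb c ht
    exact h2
  · exact notMem_primeAt_iff.1 (haT _ (Finset.mem_filter.2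
      ⟨Finset.mem_image_of_mem _ (hT.mem_toFinset.2 ht), h⟩))

variable {Z₁ Z₂ : Scheme.{u}}

/-- Gluing affine opens of two closed subschemes, the first one affine. -/
theorem exists_open_glue (ι₁ : Z₁ ⟶ X) [IsClosedImmersion ι₁] [IsAffine Z₁]
    (ι₂ : Z₂ ⟶ X) [IsClosedImmersion ι₂] {V : Z₂.Opens} (hV : IsAffineOpen V)
    (T : Set X) (hT : T.Finite) (hTV : ∀ z, ι₂ z ∈ T → z ∈ V) :
    ∃ W : X.Opens, T ⊆ W ∧ IsAffineOpen (ι₁ ⁻¹ᵁ W) ∧ IsAffineOpen (ι₂ ⁻¹ᵁ W) := by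
  haveI : IsAffine (V : Scheme) := hV
  have i₁ : Function.Injective ι₁ := ι₁.isClosedEmbedding.injective
  have i₂ : Function.Injective ι₂ := ι₂.isClosedEmbedding.injective
  -- the open set where the second subscheme is `V`
  set W₀ : X.Opens := ⟨(ι₂ '' (V : Set Z₂)ᶜ)ᶜ,
    (ι₂.isClosedEmbedding.isClosedMap _ V.isOpen.isClosed_compl).isOpen_compl⟩
  have hW₀ : ∀ z, ι₂ z ∈ W₀ → z ∈ V := fun z hz => by
    by_contra h
    exact hz ⟨z, h, rfl⟩
  have hTW₀ : T ⊆ W₀ := by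
    rintro t ht ⟨z, hz, rfl⟩
    exact hz (hTV z ht)
  obtain ⟨a, ha, haT⟩ := exists_basicOpen_le_finset (ι₁ ⁻¹ᵁ W₀) (ι₁ ⁻¹' T)
    (hT.preimage i₁.injOn) (fun x hx => hTW₀ hx)
  let C := pullback (V.ι ≫ ι₂) ι₁
  let p₁ : C ⟶ V := pullback.fst _ _
  let p₂ : C ⟶ Z₁ := pullback.snd _ _
  have hp : ∀ c, ι₂ (V.ι (p₁ c)) = ι₁ (p₂ c) := fun c => by
    have := congr($(pullback.condition (f := V.ι ≫ ι₂) (g := ι₁)) c)
    simpa only [Scheme.Hom.comp_apply] using this
  haveI : IsClosedImmersion p₁ := MorphismProperty.pullback_fst _ _ inferInstance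
  obtain ⟨b, hab, hbT⟩ := exists_lift_basicOpen p₁ (p₂.appTop a) ((V.ι ≫ ι₂) ⁻¹' T)
    (hT.preimage (i₂.comp V.ι.isOpenEmbedding.injective).injOn) (fun c hc => by
      rw [← Scheme.preimage_basicOpen_top]
      refine haT ?_
      show ι₁ (p₂ c) ∈ T
      rw [← hp]
      exact hc)
  have hagree : ∀ c, p₂ c ∈ Z₁.basicOpen a ↔ p₁ c ∈ (V : Scheme).basicOpen b := fun c => by
    show c ∈ p₂ ⁻¹ᵁ Z₁.basicOpen a ↔ c ∈ p₁ ⁻¹ᵁ (V : Scheme).basicOpen b
    rw [Scheme.preimage_basicOpen_top, Scheme.preimage_basicOpen_top, hab]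
  set U₁ : Z₁.Opens := Z₁.basicOpen a
  set U₂ : Z₂.Opens := V.ι ''ᵁ (V : Scheme).basicOpen b with hU₂
  set W : X.Opens := W₀ ⊓ ⟨(ι₁ '' (U₁ : Set Z₁)ᶜ ∪ ι₂ '' (U₂ : Set Z₂)ᶜ)ᶜ,
    ((ι₁.isClosedEmbedding.isClosedMap _ U₁.isOpen.isClosed_compl).union
      (ι₂.isClosedEmbedding.isClosedMap _ U₂.isOpen.isClosed_compl)).isOpen_compl⟩ with hW
  have h₁ : ι₁ ⁻¹ᵁ W = U₁ := by
    ext x
    refine ⟨fun hx => ?_, fun hx => ⟨ha hx, ?_⟩⟩
    · by_contra h
      exact hx.2 (Or.inl ⟨x, h, rfl⟩)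
    · rintro (⟨y, hy, he⟩ | ⟨z, hz, he⟩)
      · exact hy (i₁ he ▸ hx)
      · have hzV : z ∈ V := hW₀ z (he ▸ ha hx)
        obtain ⟨c, hc₁, hc₂⟩ := Scheme.Pullback.exists_preimage_pullback
          (f := V.ι ≫ ι₂) (g := ι₁) ⟨z, hzV⟩ x he
        exact hz ⟨⟨z, hzV⟩, hc₁ ▸ (hagree c).1 (by rw [show p₂ c = x from hc₂]; exact hx), rfl⟩
  have h₂ : ι₂ ⁻¹ᵁ W = U₂ := by
    ext z
    refine ⟨fun hz => ?_, fun hz => ⟨?_, ?_⟩⟩
    · by_contra h
      exact hz.2 (Or.inr ⟨z, h, rfl⟩)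
    · rintro ⟨y, hy, he⟩
      obtain ⟨v, -, rfl⟩ := hz
      exact hy (i₂ he ▸ v.2)
    · obtain ⟨v, hv, rfl⟩ := hz
      rintro (⟨x, hx, he⟩ | ⟨y, hy, he⟩)
      · obtain ⟨c, hc₁, hc₂⟩ := Scheme.Pullback.exists_preimage_pullback
          (f := V.ι ≫ ι₂) (g := ι₁) v x he.symm
        exact hx (hc₂ ▸ (hagree c).2 (by rw [show p₁ c = v from hc₁]; exact hv))
      · exact hy (i₂ he ▸ ⟨v, hv, rfl⟩)
  refine ⟨W, fun t ht => ⟨hTW₀ ht, ?_⟩, h₁ ▸ (isAffineOpen_top _).basicOpen a,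
    h₂ ▸ ((isAffineOpen_top _).basicOpen b).image_of_isOpenImmersion _⟩
  rintro (⟨x, hx, rfl⟩ | ⟨z, hz, rfl⟩)
  · exact hx (haT ht)
  · exact hz ⟨⟨z, hTV z ht⟩, hbT (show (V.ι ≫ ι₂) ⟨z, hTV z ht⟩ ∈ T from ht), rfl⟩

/-- The preimage in a closed subscheme of an open, pushed from an open. -/
theorem isAffineOpen_preimage_image (ι : Z ⟶ X) (U : X.Opens) (W : (U : Scheme).Opens)
    (h : IsAffineOpen ((ι ∣_ U) ⁻¹ᵁ W)) : IsAffineOpen (ι ⁻¹ᵁ (U.ι ''ᵁ W)) := by
  rw [← image_morphismRestrict_preimage]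
  exact h.image_of_isOpenImmersion _

/-- The reduced closed subscheme on a closed set. -/
noncomputable abbrev redι (K : Closeds X) :
    (Scheme.IdealSheafData.vanishingIdeal K).subscheme ⟶ X :=
  (Scheme.IdealSheafData.vanishingIdeal K).subschemeι

theorem range_redι (K : Closeds X) : Set.range (redι K) = (K : Set X) := by
  rw [Scheme.IdealSheafData.range_subschemeι, Groth.L18.support_vanishingIdeal]

/-- A reduced closed subscheme covered by finitely many affine reduced ones. -/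
theorem isAffine_red_of_cover {κ : Type u} [Finite κ] (P : κ → Scheme.{u}) (j : ∀ k, P k ⟶ X)
    [∀ k, IsClosedImmersion (j k)] [∀ k, IsAffine (P k)] [∀ k, IsReduced (P k)] (K : Closeds X)
    (hK : (K : Set X) = ⋃ k, Set.range (j k)) :
    ∃ (l : ∀ k, P k ⟶ (Scheme.IdealSheafData.vanishingIdeal K).subscheme),
      (∀ k, l k ≫ redι K = j k) ∧ (∀ k, IsClosedImmersion (l k)) ∧
      IsAffine (Scheme.IdealSheafData.vanishingIdeal K).subscheme := by
  have hle : ∀ k, (redι K).ker ≤ (j k).ker := fun k => by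
    rw [Scheme.IdealSheafData.ker_subschemeι]
    exact Groth.L18.vanishingIdeal_le_ker _ _ (hK ▸ Set.subset_iUnion (fun k => Set.range (j k)) k)
  refine ⟨fun k => IsClosedImmersion.lift (redι K) (j k) (hle k),
    fun k => IsClosedImmersion.lift_fac _ _ _, fun k => ?_, ?_⟩
  · haveI : IsClosedImmersion (IsClosedImmersion.lift (redι K) (j k) (hle k) ≫ redι K) := by
      rw [IsClosedImmersion.lift_fac]; infer_instance
    exact IsClosedImmersion.of_comp _ (redι K)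
  · haveI : ∀ k, IsClosedImmersion (IsClosedImmersion.lift (redι K) (j k) (hle k)) := fun k => by
      haveI : IsClosedImmersion (IsClosedImmersion.lift (redι K) (j k) (hle k) ≫ redι K) := by
        rw [IsClosedImmersion.lift_fac]; infer_instance
      exact IsClosedImmersion.of_comp _ (redι K)
    refine Groth.Agent.S9203.result _ P (fun k => IsClosedImmersion.lift (redι K) (j k) (hle k)) fun z => ?_
    have hz : redι K z ∈ ⋃ k, Set.range (j k) := hK ▸ range_redι K ▸ ⟨z, rfl⟩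
    obtain ⟨k, c, hc⟩ := Set.mem_iUnion.1 hz
    refine ⟨k, c, (redι K).isClosedEmbedding.injective ?_⟩
    rw [← Scheme.Hom.comp_apply, IsClosedImmersion.lift_fac, hc]

instance isReduced_red (K : Closeds X) :
    IsReduced (Scheme.IdealSheafData.vanishingIdeal K).subscheme :=
  Groth.L18.isReduced_vanishingIdeal_subscheme _

/-- Finitely many points in an open whose traces on finitely many closed sets are affine. -/
theorem exists_open_forall_affine [DecidableEq (Closeds X)] (T : Set X) (hT : T.Finite)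
    (s : Finset (Closeds X))
    (h : ∀ K ∈ s, ∃ V : (Scheme.IdealSheafData.vanishingIdeal K).subscheme.Opens,
      IsAffineOpen V ∧ ∀ z, redι K z ∈ T → z ∈ V) :
    ∃ U : X.Opens, T ⊆ U ∧ ∀ K ∈ s, IsAffineOpen (redι K ⁻¹ᵁ U) := by
  induction s using Finset.induction_on with
  | empty => exact ⟨⊤, fun _ _ => trivial, by simp⟩
  | @insert K₀ s hK₀ ih =>
    obtain ⟨U, hTU, hU⟩ := ih fun K hK => h K (Finset.mem_insert_of_mem hK)
    obtain ⟨V, hV, hTV⟩ := h K₀ (Finset.mem_insert_self _ _)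
    obtain ⟨V', hV', hle, hTV'⟩ := exists_affine_le_finset hV (redι K₀ ⁻¹ᵁ U) (redι K₀ ⁻¹' T)
      (hT.preimage (redι K₀).isClosedEmbedding.injective.injOn) (fun z hz => hTV z hz)
      (fun z hz => hTU hz)
    -- the pieces inside `U`
    let P : s → Scheme.{u} := fun K => (redι K.1 ⁻¹ᵁ U : Scheme)
    let j : ∀ K, P K ⟶ U := fun K => redι K.1 ∣_ U
    haveI : ∀ K, IsAffine (P K) := fun K => hU K.1 K.2
    haveI : ∀ K, IsReduced (P K) := fun K => inferInstanceAs (IsReduced (redι K.1 ⁻¹ᵁ U : Scheme))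
    haveI : ∀ K, IsClosedImmersion (j K) := fun K => IsZariskiLocalAtTarget.restrict (P := @IsClosedImmersion) inferInstance U
    let Y : Closeds (U : Scheme) := ⟨⋃ K, Set.range (j K),
      isClosed_iUnion_of_finite fun K => (j K).isClosedEmbedding.isClosed_range⟩
    obtain ⟨l, hl, hlc, hYaff⟩ := isAffine_red_of_cover P j Y rfl
    haveI := hYaff
    haveI : IsClosedImmersion (redι K₀ ∣_ U) := IsZariskiLocalAtTarget.restrict (P := @IsClosedImmersion) inferInstance U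
    obtain ⟨W, hTW, hW₁, hW₂⟩ := exists_open_glue (redι Y) (redι K₀ ∣_ U)
      (V := (redι K₀ ⁻¹ᵁ U).ι ⁻¹ᵁ V')
      (hV'.preimage_of_isOpenImmersion _ (by
        rw [Scheme.Opens.opensRange_ι]; exact hle.trans inf_le_right))
      (U.ι ⁻¹' T) (hT.preimage U.ι.isOpenEmbedding.injective.injOn) (fun z hz => hTV' (by
        show redι K₀ ((redι K₀ ⁻¹ᵁ U).ι z) ∈ T
        rw [← Scheme.Hom.comp_apply, ← morphismRestrict_ι]
        exact hz))
    refine ⟨U.ι ''ᵁ W, fun t ht => ⟨⟨t, hTU ht⟩, hTW (show U.ι ⟨t, hTU ht⟩ ∈ T from ht), rfl⟩, fun K hK => ?_⟩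
    rcases Finset.mem_insert.1 hK with rfl | hK
    · exact isAffineOpen_preimage_image _ _ _ hW₂
    · refine isAffineOpen_preimage_image _ _ _ ?_
      have he : j ⟨K, hK⟩ ⁻¹ᵁ W = l ⟨K, hK⟩ ⁻¹ᵁ (redι Y ⁻¹ᵁ W) := by
        rw [← hl ⟨K, hK⟩, Scheme.Hom.comp_preimage]
      haveI := hlc ⟨K, hK⟩
      exact he ▸ hW₁.preimage (l ⟨K, hK⟩)

/-- Per-component affine opens give an affine open. -/
theorem exists_affineOpen_of_cover [DecidableEq (Closeds X)] (T : Set X) (hT : T.Finite)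
    (s : Finset (Closeds X)) (hs : ∀ x : X, ∃ K ∈ s, x ∈ (K : Set X))
    (h : ∀ K ∈ s, ∃ V : (Scheme.IdealSheafData.vanishingIdeal K).subscheme.Opens,
      IsAffineOpen V ∧ ∀ z, redι K z ∈ T → z ∈ V) :
    ∃ U : X.Opens, IsAffineOpen U ∧ T ⊆ U := by
  obtain ⟨U, hTU, hU⟩ := exists_open_forall_affine T hT s h
  refine ⟨U, ?_, hTU⟩
  haveI : ∀ K : s, IsAffine (redι K.1 ⁻¹ᵁ U : Scheme) := fun K => hU K.1 K.2
  haveI : ∀ K : s, IsClosedImmersion (redι K.1 ∣_ U) := fun K =>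
    IsZariskiLocalAtTarget.restrict (P := @IsClosedImmersion) inferInstance U
  refine Groth.Agent.S9203.result (U : Scheme) (fun K : s => (redι K.1 ⁻¹ᵁ U : Scheme))
    (fun K => redι K.1 ∣_ U) fun x => ?_
  obtain ⟨K, hK, hx⟩ := hs (U.ι x)
  obtain ⟨z, hz⟩ : U.ι x ∈ Set.range (redι K) := range_redι K ▸ hx
  refine ⟨⟨K, hK⟩, ⟨z, show redι K z ∈ U from hz ▸ x.2⟩, ?_⟩
  apply U.ι.isOpenEmbedding.injective
  rw [← Scheme.Hom.comp_apply, morphismRestrict_ι]
  exact hz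

end Groth.L22.FinAff
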