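import Groth.Agent.L22.FinAff.Glue
import Mathlib.AlgebraicGeometry.Stalk
import Mathlib.AlgebraicGeometry.Morphisms.Affine
import Mathlib.AlgebraicGeometry.Morphisms.QuasiSeparated

/-!
Images of finitely many points of an affine scheme at which a map is a local isomorphism lie in an
affine open.
-/

set_option autoImplicit false
universe u

open AlgebraicGeometry CategoryTheory CategoryTheory.Limits TopologicalSpace Opposite

namespace Groth.L22.FinAff

/-- A point with no proper generization. -/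
def IsGen {α : Type*} [TopologicalSpace α] (ξ : α) : Prop := ∀ z, z ⤳ ξ → z = ξ

variable {T Y : Scheme.{u}}

theorem exists_isGen_specializes (y : Y) : ∃ ξ : Y, IsGen ξ ∧ ξ ⤳ y := by
  have hirr := isIrreducible_irreducibleComponent (x := y)
  obtain ⟨g, hg⟩ : ∃ g, IsGenericPoint g (irreducibleComponent y) :=
    QuasiSober.sober hirr isClosed_irreducibleComponent
  refine ⟨g, fun z hz => ?_, hg.specializes mem_irreducibleComponent⟩
  have hle : irreducibleComponent y ⊆ closure {z} := hg ▸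
    closure_minimal (Set.singleton_subset_iff.2 hz.mem_closure) isClosed_closure
  have he := subset_antisymm hle
    ((irreducibleComponent_mem_irreducibleComponents y).2 isIrreducible_singleton.closure hle)
  exact (show IsGenericPoint z (irreducibleComponent y) from he.symm).eq hg

theorem closure_mem_of_isGen {ξ : Y} (h : IsGen ξ) :
    closure ({ξ} : Set Y) ∈ irreducibleComponents (Y : Type u) := by
  obtain ⟨g, hg⟩ : ∃ g, IsGenericPoint g (irreducibleComponent ξ) :=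
    QuasiSober.sober isIrreducible_irreducibleComponent isClosed_irreducibleComponent
  obtain rfl := h g (hg.specializes mem_irreducibleComponent)
  exact (show closure {g} = irreducibleComponent g from hg) ▸
    irreducibleComponent_mem_irreducibleComponents g

theorem exists_nhd_isGen_specializes (hY : (irreducibleComponents (Y : Type u)).Finite) (x : Y) :
    ∃ G : Y.Opens, x ∈ G ∧ ∀ ξ, IsGen ξ → ξ ∈ G → ξ ⤳ x := by
  set B : Set Y := ⋃ Z ∈ {Z ∈ irreducibleComponents (Y : Type u) | x ∉ Z}, Z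
  have hB : IsClosed B := (hY.subset fun Z hZ => hZ.1).isClosed_biUnion fun Z hZ =>
    isClosed_of_mem_irreducibleComponents Z hZ.1
  refine ⟨⟨Bᶜ, hB.isOpen_compl⟩, fun h => ?_, fun ξ hξ hξG => ?_⟩
  · obtain ⟨Z, hZ, hxZ⟩ := Set.mem_iUnion₂.1 h
    exact hZ.2 hxZ
  · by_contra hns
    exact hξG (Set.mem_iUnion₂.2 ⟨closure {ξ}, ⟨closure_mem_of_isGen hξ,
      fun h => hns (specializes_iff_mem_closure.2 h)⟩, subset_closure rfl⟩)

/-- The ideal of sections on an open whose non-vanishing locus lies in a given open. -/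
noncomputable def supportedIdealOn (N U : Y.Opens) : Ideal Γ(Y, N) where
  carrier := {f | Y.basicOpen f ≤ U}
  zero_mem' := by simp [Scheme.basicOpen_zero]
  add_mem' {f g} hf hg := (Y.basicOpen_add_le f g).trans (sup_le hf hg)
  smul_mem' c f hf := by
    show Y.basicOpen (c * f) ≤ U
    rw [Scheme.basicOpen_mul]
    exact inf_le_right.trans hf

theorem exists_nhd_basicOpen_le {N : Y.Opens} (hN : IsAffineOpen N) (b : Γ(Y, N)) (U : Y.Opens)
    {x : Y} (hx : x ∈ N) (h : ∀ y, y ⤳ x → y ∈ Y.basicOpen b → y ∈ U) :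
    ∃ M : Y.Opens, x ∈ M ∧ M ≤ N ∧ M ⊓ Y.basicOpen b ≤ U := by
  set P := hN.primeIdealOf ⟨x, hx⟩ with hP
  set S : Submonoid Γ(Y, N) := P.asIdeal.primeCompl ⊔ Submonoid.powers b
  by_cases hd : Disjoint (supportedIdealOn N U : Set Γ(Y, N)) (S : Set Γ(Y, N))
  · exfalso
    obtain ⟨Q, hQ, hIQ, hQS⟩ := Ideal.exists_le_prime_disjoint _ S hd
    set q : PrimeSpectrum Γ(Y, N) := ⟨Q, hQ⟩
    have hqP : q ⤳ P := (PrimeSpectrum.le_iff_specializes _ _).1 fun r hr => by
      by_contra hrP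
      exact Set.disjoint_left.1 hQS hr (le_sup_left (b := Submonoid.powers b) hrP)
    have hyx : hN.fromSpec q ⤳ x := by
      have := hqP.map hN.fromSpec.continuous
      rwa [hP, hN.fromSpec_primeIdealOf] at this
    have hqb : q ∈ hN.fromSpec ⁻¹ᵁ Y.basicOpen b := by
      rw [hN.fromSpec_preimage_basicOpen]
      exact fun hb => Set.disjoint_left.1 hQS hb
        (le_sup_right (a := P.asIdeal.primeCompl) (Submonoid.mem_powers b))
    obtain ⟨r, hr, hqr⟩ := hN.exists_basicOpen_le (V := U) ⟨_, h _ hyx hqb⟩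
      (Y.basicOpen_le b hqb)
    have : q ∈ hN.fromSpec ⁻¹ᵁ Y.basicOpen r := hqr
    rw [hN.fromSpec_preimage_basicOpen] at this
    exact this (hIQ hr)
  · obtain ⟨r, hrI, hrS⟩ := Set.not_disjoint_iff.1 hd
    obtain ⟨w, hw, v, ⟨n, rfl⟩, rfl⟩ := Submonoid.mem_sup.1 hrS
    refine ⟨Y.basicOpen w, ?_, Y.basicOpen_le w, ?_⟩
    · have : P ∈ hN.fromSpec ⁻¹ᵁ Y.basicOpen w := by
        rw [hN.fromSpec_preimage_basicOpen]
        exact hw
      have hx' : hN.fromSpec P ∈ Y.basicOpen w := this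
      rwa [hP, hN.fromSpec_primeIdealOf] at hx'
    · refine le_trans ?_ (show Y.basicOpen (w * b ^ n) ≤ U from hrI)
      rw [Scheme.basicOpen_mul]
      refine inf_le_inf_left _ ?_
      rcases Nat.eq_zero_or_pos n with rfl | hn
      · rw [pow_zero, Y.basicOpen_of_isUnit isUnit_one]
        exact Y.basicOpen_le b
      · rw [Y.basicOpen_pow _ hn]

variable (f : T ⟶ Y)

/-- The local data at one point: a lift of a global function on the source. -/
theorem exists_local (hY : (irreducibleComponents (Y : Type u)).Finite) (t : T)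
    (hsurj : Function.Surjective (f.stalkMap t))
    (hgen : ∀ y, y ⤳ f t → ∃ t', t' ⤳ t ∧ f t' = y)
    (a : Γ(T, ⊤)) (U : Y.Opens) (ha : T.basicOpen a ≤ f ⁻¹ᵁ U) :
    ∃ (M : Y.Opens) (b : Γ(Y, M)) (O : T.Opens) (e : O ≤ f ⁻¹ᵁ M),
      f t ∈ M ∧ t ∈ O ∧ f.appLE M O e b = T.presheaf.map (homOfLE le_top).op a ∧
      Y.basicOpen b ≤ U ∧ ∀ ξ, IsGen ξ → ξ ∈ M → ξ ⤳ f t := by
  obtain ⟨β, hβ⟩ := hsurj (T.presheaf.germ ⊤ t trivial a)
  obtain ⟨M₀, hM₀, b₀, rfl⟩ := Y.presheaf.germ_exist β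
  obtain ⟨N, hN, hfN, hNM₀⟩ :=
    TopologicalSpace.Opens.isBasis_iff_nbhd.1 Y.isBasis_affineOpens hM₀
  set b : Γ(Y, N) := Y.presheaf.map (homOfLE hNM₀).op b₀ with hb
  have hgerm : T.presheaf.germ (f ⁻¹ᵁ N) t hfN (f.app N b) = T.presheaf.germ ⊤ t trivial a := by
    rw [← hβ, ← Scheme.Hom.germ_stalkMap_apply, hb, TopCat.Presheaf.germ_res_apply]
  obtain ⟨O, htO, iO, iT, hO⟩ := T.presheaf.germ_eq t _ _ _ _ hgerm
  have hOD : ∀ z, z ∈ O → (f z ∈ Y.basicOpen b ↔ z ∈ T.basicOpen a) := fun z hz => by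
    have := congrArg T.basicOpen hO
    rw [Scheme.basicOpen_res, Scheme.basicOpen_res, ← Scheme.preimage_basicOpen] at this
    exact ⟨fun h => (this.le ⟨hz, h⟩).2, fun h => (this.ge ⟨hz, h⟩).2⟩
  obtain ⟨M₁, hM₁, hM₁N, hM₁U⟩ := exists_nhd_basicOpen_le hN b U hfN fun y hy hyb => by
    obtain ⟨t', ht', rfl⟩ := hgen y hy
    exact ha ((hOD t' (ht'.mem_open O.isOpen htO)).1 hyb)
  obtain ⟨G, hG, hGgen⟩ := exists_nhd_isGen_specializes hY (f t)
  refine ⟨M₁ ⊓ G, Y.presheaf.map (homOfLE (inf_le_left.trans hM₁N)).op b, O ⊓ f ⁻¹ᵁ (M₁ ⊓ G),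
    inf_le_right, ⟨hM₁, hG⟩, ⟨htO, hM₁, hG⟩, ?_, ?_, fun ξ hξ h => hGgen ξ hξ h.2⟩
  · have h1 := congrArg (T.presheaf.map (homOfLE (inf_le_left : O ⊓ f ⁻¹ᵁ (M₁ ⊓ G) ≤ O)).op) hO
    simp only [← CommRingCat.comp_apply, Category.assoc, ← T.presheaf.map_comp] at h1
    rw [← CommRingCat.comp_apply, Scheme.Hom.map_appLE]
    refine Eq.trans ?_ h1
    simp only [Scheme.Hom.appLE, CommRingCat.comp_apply]
    rfl
  · rw [Scheme.basicOpen_res]
    exact (inf_le_inf_right _ inf_le_left).trans hM₁U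

/-- For a reduced target: a section near finitely many images, vanishing outside a given open. -/
theorem exists_section [IsReduced Y] (hY : (irreducibleComponents (Y : Type u)).Finite) (s : Finset T)
    (hsurj : ∀ t ∈ s, Function.Surjective (f.stalkMap t))
    (hgen : ∀ t ∈ s, ∀ y, y ⤳ f t → ∃ t', t' ⤳ t ∧ f t' = y)
    (hinj : ∀ η η' : T, IsGen η → IsGen η' → f η = f η' → η = η')
    (a : Γ(T, ⊤)) (U : Y.Opens) (ha : T.basicOpen a ≤ f ⁻¹ᵁ U) :
    ∃ (W : Y.Opens) (c : Γ(Y, W)), (∀ t ∈ s, f t ∈ W) ∧ Y.basicOpen c ≤ U ∧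
      ∀ t ∈ s, t ∈ T.basicOpen a → f t ∈ Y.basicOpen c := by
  choose M b O e hM hO heq hbU hMgen using fun t : s =>
    exists_local f hY t.1 (hsurj t.1 t.2) (hgen t.1 t.2) a U ha
  have hcomp : TopCat.Presheaf.IsCompatible Y.sheaf.1 M b := by
    intro j k
    rw [← sub_eq_zero]
    set d : Γ(Y, M j ⊓ M k) := Y.presheaf.map (Opens.infLELeft (M j) (M k)).op (b j) -
      Y.presheaf.map (Opens.infLERight (M j) (M k)).op (b k) with hd
    show d = 0
    rw [← basicOpen_eq_bot_iff, eq_bot_iff]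
    intro y hy
    exfalso
    obtain ⟨ξ, hξ, hξy⟩ := exists_isGen_specializes y
    have hξd : ξ ∈ Y.basicOpen d := hξy.mem_open (Y.basicOpen d).isOpen hy
    have hex : ∀ l : s, ξ ∈ M l → ∃ η : T, IsGen η ∧ η ⤳ l.1 ∧ f η = ξ := fun l hl => by
      obtain ⟨t', ht', he⟩ := hgen l.1 l.2 ξ (hMgen l ξ hξ hl)
      obtain ⟨η, hη, hηt'⟩ := exists_isGen_specializes t'
      exact ⟨η, hη, hηt'.trans ht', hξ _ (he ▸ hηt'.map f.continuous)⟩
    obtain ⟨η, hη, hηj, he⟩ := hex j (Y.basicOpen_le d hξd).1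
    obtain ⟨η', hη', hηk, he'⟩ := hex k (Y.basicOpen_le d hξd).2
    obtain rfl := hinj η η' hη hη' (he.trans he'.symm)
    have hle : O j ⊓ O k ≤ f ⁻¹ᵁ (M j ⊓ M k) := inf_le_inf (e j) (e k)
    have hz : f.appLE (M j ⊓ M k) (O j ⊓ O k) hle d = 0 := by
      have h : ∀ (l : s) (i : M j ⊓ M k ≤ M l) (i' : O j ⊓ O k ≤ O l),
          f.appLE (M j ⊓ M k) (O j ⊓ O k) hle (Y.presheaf.map (homOfLE i).op (b l)) =
            T.presheaf.map (homOfLE (le_top : O j ⊓ O k ≤ ⊤)).op a := fun l i i' => by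
        rw [← CommRingCat.comp_apply, Scheme.Hom.map_appLE,
          ← Scheme.Hom.appLE_map f (e l) (homOfLE i').op, CommRingCat.comp_apply, heq,
          ← CommRingCat.comp_apply, ← T.presheaf.map_comp]
        rfl
      rw [hd, map_sub, sub_eq_zero]
      exact (h j inf_le_left inf_le_left).trans (h k inf_le_right inf_le_right).symm
    have hmem : η ∈ O j ⊓ O k ⊓ f ⁻¹ᵁ Y.basicOpen d :=
      ⟨⟨hηj.mem_open (O j).isOpen (hO j), hηk.mem_open (O k).isOpen (hO k)⟩,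
        show f η ∈ _ from he ▸ hξd⟩
    rw [← Scheme.basicOpen_appLE f _ _ hle, hz, Scheme.basicOpen_zero] at hmem
    exact hmem
  obtain ⟨c, hc, -⟩ := Y.sheaf.existsUnique_gluing' M (iSup M) (fun j => homOfLE (le_iSup M j))
    le_rfl b hcomp
  have hcM : ∀ j, M j ⊓ Y.basicOpen c = Y.basicOpen (b j) := fun j => by
    rw [← hc j]
    exact (Y.basicOpen_res c (homOfLE (le_iSup M j)).op).symm
  refine ⟨iSup M, c, fun t ht => le_iSup M ⟨t, ht⟩ (hM ⟨t, ht⟩), fun y hy => ?_, fun t ht hta => ?_⟩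
  · obtain ⟨j, hj⟩ := TopologicalSpace.Opens.mem_iSup.1 (Y.basicOpen_le c hy)
    exact hbU j ((hcM j).le ⟨hj, hy⟩)
  · have : t ∈ T.basicOpen (f.appLE (M ⟨t, ht⟩) (O ⟨t, ht⟩) (e ⟨t, ht⟩) (b ⟨t, ht⟩)) := by
      rw [heq, Scheme.basicOpen_res]
      exact ⟨hO ⟨t, ht⟩, hta⟩
    rw [Scheme.basicOpen_appLE] at this
    exact ((hcM ⟨t, ht⟩).ge this.2).2

/-- Reduced target. -/
theorem exists_affineOpen_images_reduced [IsReduced Y] [QuasiSeparatedSpace Y] [IsAffine T]
    (hY : (irreducibleComponents (Y : Type u)).Finite) (s : Finset T)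
    (hsurj : ∀ t ∈ s, Function.Surjective (f.stalkMap t))
    (hgen : ∀ t ∈ s, ∀ y, y ⤳ f t → ∃ t', t' ⤳ t ∧ f t' = y)
    (hinj : ∀ η η' : T, IsGen η → IsGen η' → f η = f η' → η = η') :
    ∃ V : Y.Opens, IsAffineOpen V ∧ ∀ t ∈ s, f t ∈ V := by
  classical
  have hdata : ∀ i : s, ∃ U : Y.Opens, IsAffineOpen U ∧ ∃ (W : Y.Opens) (c : Γ(Y, W)),
      (∀ t ∈ s, f t ∈ W) ∧ Y.basicOpen c ≤ U ∧ f i.1 ∈ Y.basicOpen c := fun i => by
    obtain ⟨U, hU, hiU, -⟩ := TopologicalSpace.Opens.isBasis_iff_nbhd.1 Y.isBasis_affineOpens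
      (TopologicalSpace.Opens.mem_top (f i.1))
    obtain ⟨a, ha, hia⟩ := (isAffineOpen_top T).exists_basicOpen_le (V := f ⁻¹ᵁ U)
      ⟨i.1, hiU⟩ trivial
    obtain ⟨W, c, hW, hcU, hc⟩ := exists_section f hY s hsurj hgen hinj a U ha
    exact ⟨U, hU, W, c, hW, hcU, hc i.1 i.2 hia⟩
  choose U hU Wi ci hWi hciU hci using hdata
  -- a quasi-compact open containing the images
  have hnb : ∀ t : s, ∃ V : Y.Opens, IsAffineOpen V ∧ f t.1 ∈ V ∧ ∀ i, V ≤ Wi i := fun t => by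
    have hm : f t.1 ∈ (⟨⋂ i, (Wi i : Set Y),
        isOpen_iInter_of_finite fun i => (Wi i).isOpen⟩ : Y.Opens) :=
      Set.mem_iInter.2 fun i => hWi i t.1 t.2
    obtain ⟨V, hV, htV, hle⟩ :=
      TopologicalSpace.Opens.isBasis_iff_nbhd.1 Y.isBasis_affineOpens hm
    exact ⟨V, hV, htV, fun i y hy => Set.mem_iInter.1 (hle hy) i⟩
  choose Vt hVt htV hVW using hnb
  set W : Y.Opens := iSup Vt with hW
  have hWc : IsCompact (W : Set Y) := by
    rw [hW, TopologicalSpace.Opens.coe_iSup]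
    exact isCompact_iUnion fun t => (hVt t).isCompact
  have hWq : IsQuasiSeparated (W : Set Y) :=
    isQuasiSeparated_univ.of_subset (Set.subset_univ _)
  have hc' : ∀ i : s, ∃ c' : Γ(Y, W), f i.1 ∈ Y.basicOpen c' ∧ IsAffineOpen (Y.basicOpen c') := by
    intro i
    set cW : Γ(Y, W) := Y.presheaf.map (homOfLE (iSup_le fun t => hVW t i)).op (ci i) with hcW
    have hcWU : Y.basicOpen cW ≤ U i := by
      rw [hcW, Scheme.basicOpen_res]
      exact inf_le_right.trans (hciU i)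
    have hicW : f i.1 ∈ Y.basicOpen cW := by
      rw [hcW, Scheme.basicOpen_res]
      exact ⟨le_iSup Vt i (htV i), hci i⟩
    obtain ⟨d, hd, hid⟩ := (hU i).exists_basicOpen_le (V := Y.basicOpen cW) ⟨f i.1, hicW⟩
      (hcWU hicW)
    set d' := Y.presheaf.map (homOfLE hcWU).op d with hd'
    haveI := isLocalization_basicOpen_of_qcqs hWc hWq cW
    obtain ⟨n, e, he⟩ := IsLocalization.Away.surj cW d'
    have hunit : IsUnit (algebraMap Γ(Y, W) Γ(Y, Y.basicOpen cW) cW) :=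
      IsLocalization.Away.algebraMap_isUnit cW
    have heD : Y.basicOpen e ⊓ Y.basicOpen cW = Y.basicOpen d := by
      have := congrArg Y.basicOpen he
      rw [Scheme.basicOpen_mul, Y.basicOpen_of_isUnit (hunit.pow n)] at this
      rw [show Y.basicOpen (algebraMap Γ(Y, W) Γ(Y, Y.basicOpen cW) e) =
        Y.basicOpen cW ⊓ Y.basicOpen e from Y.basicOpen_res e (homOfLE (Y.basicOpen_le cW)).op,
        hd', Scheme.basicOpen_res] at this
      rw [inf_comm, ← this]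
      exact le_antisymm (inf_le_left.trans inf_le_right) (le_inf (le_inf hd le_rfl) hd)
    refine ⟨e * cW, ?_, ?_⟩
    · rw [Scheme.basicOpen_mul, heD]; exact hid
    · rw [Scheme.basicOpen_mul, heD]; exact (hU i).basicOpen d
  choose c' hc' hc'aff using hc'
  let P : s → Ideal Γ(Y, W) := fun t =>
    RingHom.ker (Y.evaluation W (f t.1) (le_iSup Vt t (htV t))).hom
  have hP : ∀ (t : s) (g : Γ(Y, W)), g ∉ P t ↔ f t.1 ∈ Y.basicOpen g := fun t g =>
    Y.evaluation_ne_zero_iff_mem_basicOpen _ _ g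
  obtain ⟨c, hc, hcP⟩ := Groth.Agent.S7661.result Γ(Y, W) (Ideal.span (Set.range c'))
    (Finset.univ.image P)
    (fun p hp => by
      obtain ⟨t, -, rfl⟩ := Finset.mem_image.1 hp
      exact RingHom.ker_isPrime _)
    (fun p hp hle => by
      obtain ⟨t, -, rfl⟩ := Finset.mem_image.1 hp
      exact (hP t _).2 (hc' t) (hle (Ideal.subset_span ⟨t, rfl⟩))) 0
  have hcI := Ideal.Quotient.eq_zero_iff_mem.1 hc
  refine ⟨Y.basicOpen c, ?_, fun t ht => (hP ⟨t, ht⟩ c).1
    (hcP _ (Finset.mem_image_of_mem P (Finset.mem_univ _)))⟩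
  set r := (Y.presheaf.map (homOfLE (Y.basicOpen_le c)).op).hom with hr
  refine isAffineOpen_of_isAffineOpen_basicOpen _ (r '' Set.range c') ?_ ?_
  · rw [← Ideal.map_span r]
    exact Ideal.eq_top_of_isUnit_mem _ (Ideal.mem_map_of_mem r hcI)
      (RingedSpace.isUnit_res_basicOpen _ c)
  · rintro _ ⟨_, ⟨i, rfl⟩, rfl⟩
    have h := (hc'aff i).basicOpen (Y.presheaf.map (homOfLE (Y.basicOpen_le (c' i))).op c)
    rw [Scheme.basicOpen_res] at h
    show IsAffineOpen (Y.basicOpen (Y.presheaf.map (homOfLE (Y.basicOpen_le c)).op (c' i)))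
    rw [Scheme.basicOpen_res, inf_comm]
    exact h

end Groth.L22.FinAff
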